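import Groth.Agent.Lib.Gabber15.Descend
import Groth.Agent.Lib.AlgSpace.Diag
import Groth.Agent.Lib.AlgSpDescent.LocSurj

/-!
# Algebraic spaces are sheaves for the fpqc topology
-/

universe u

set_option backward.isDefEq.respectTransparency.types false

open CategoryTheory CategoryTheory.Limits AlgebraicGeometry Opposite

namespace Groth.Agent.Gabber15

open AlgSp AlgSpace AlgSpDecent AlgSpDescent

variable {S : Scheme.{u}}

/-- An algebraic space is a separated presheaf for the fpqc topology. -/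
theorem hom_ext_fpqc {X : Sp S} (hX : IsAlgSpace X) {R : Over S} {κ : Type u}
    {P : κ → Scheme.{u}} {p : ∀ k, P k ⟶ R.left}
    (hp : Presieve.ofArrows P p ∈ Scheme.fpqcPrecoverage R.left)
    {g g' : (yon S).obj R ⟶ X}
    (h : ∀ k, (yon S).map (Over.homMk (p k) rfl : Over.mk (p k ≫ R.hom) ⟶ R) ≫ g =
      (yon S).map (Over.homMk (p k) rfl : Over.mk (p k ≫ R.hom) ⟶ R) ≫ g') : g = g' := by
  have hm := repWith_diag_mono hX.diag
  have sq := hm.1.isPullback (prod.lift g g')
  have : Mono (hm.1.snd (prod.lift g g')).left := hm.2 _ _ _ sq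
  let s := hm.1.snd (prod.lift g g')
  have hl : ∀ k, ∃ l : P k ⟶ (hm.1.pullback (prod.lift g g')).left, l ≫ s.left = p k := fun k => by
    let b : Over.mk (p k ≫ R.hom) ⟶ R := Over.homMk (p k) rfl
    obtain ⟨l, hl⟩ := (yon S).map_surjective
      (sq.lift ((yon S).map b ≫ g) ((yon S).map b) (by
        apply Limits.prod.hom_ext <;> simp [b, h k, limit.lift_π]))
    refine ⟨l.left, congrArg CommaMorphism.left ((yon S).map_injective
      (show (yon S).map (l ≫ s) = (yon S).map b by rw [Functor.map_comp, hl, sq.lift_snd]))⟩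
  choose l hl using hl
  have hsheaf := (GrothendieckTopology.Subcanonical.isSheaf_of_isRepresentable
    (J := Scheme.fpqcTopology.{u}) (yoneda.obj (hm.1.pullback (prod.lift g g')).left)).isSheafFor _
    (Precoverage.generate_mem_toGrothendieck hp)
  rw [Presieve.isSheafFor_arrows_iff] at hsheaf
  obtain ⟨σ, hσ, -⟩ := hsheaf l (fun i j Q a b e => by
    change a ≫ l i = b ≫ l j
    rw [← cancel_mono s.left, Category.assoc, Category.assoc, hl, hl]
    exact e)
  change R.left ⟶ _ at σ
  change ∀ k, p k ≫ σ = l k at hσ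
  have hσs : σ ≫ s.left = 𝟙 R.left := SchDesc12.hom_ext_fpqc _ hp fun k => by
    rw [← Category.assoc, hσ, hl, Category.comp_id]
  let σ' : R ⟶ hm.1.pullback (prod.lift g g') := Over.homMk σ (by
    rw [← Over.w s, reassoc_of% hσs])
  have hσ' : σ' ≫ s = 𝟙 R := Over.OverMorphism.ext hσs
  have e : ((yon S).map σ' ≫ hm.1.fst (prod.lift g g')) ≫ Limits.diag X = prod.lift g g' := by
    rw [Category.assoc, sq.w, ← Functor.map_comp_assoc]
    change (yon S).map (σ' ≫ s) ≫ _ = _
    rw [hσ', CategoryTheory.Functor.map_id, Category.id_comp]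
  have e₁ := congrArg (· ≫ Limits.prod.fst) e
  have e₂ := congrArg (· ≫ Limits.prod.snd) e
  simp [limit.lift_π, prod.lift_fst, prod.lift_snd] at e₁ e₂
  exact e₁.symm.trans e₂

/-- Compatible points on an fpqc family glue to a point of an algebraic space. -/
theorem exists_glue {X : Sp S} (hX : IsAlgSpace X) {T : Over S} {ι : Type u} {Y : ι → Scheme.{u}}
    (f : ∀ i, Y i ⟶ T.left) (hf : Presieve.ofArrows Y f ∈ Scheme.fpqcPrecoverage T.left)
    (x : ∀ i, (yon S).obj (mem f i) ⟶ X) (hx : Compat f x) :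
    ∃ g : (yon S).obj T ⟶ X, ∀ i, (yon S).map (Over.homMk (f i) rfl : mem f i ⟶ T) ≫ g = x i := by
  obtain ⟨U₀, p₀, hpe, hps⟩ := hX.atlas
  let 𝒱 := U₀.left.affineCover
  let U : 𝒱.I₀ → Over S := fun k => Over.mk (𝒱.f k ≫ U₀.hom)
  let c : ∀ k, (yon S).obj (U k) ⟶ X := fun k =>
    (yon S).map (Over.homMk (𝒱.f k) rfl : U k ⟶ U₀) ≫ p₀
  have hce : ∀ k, RepWith @Etale (c k) := fun k =>
    repWith_comp ((repWith_yon_map_iff _ _).2 (show Etale (𝒱.f k) from inferInstance)) hpe
  have : ∀ k, IsAffine (U k).left := fun k => inferInstanceAs (IsAffine (U₀.left.affineCover.X k))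
  choose A g u hge hgx hgs using fun k => exists_descended f x (hce k).1 hx (hce k) hf
  have hcov : ∀ t : ↥T.left, ∃ k a, g k a = t := fun t => by
    obtain ⟨i, t', rfl⟩ : ∃ i t', f i t' = t := by
      obtain ⟨V, hV, htV, -⟩ := exists_isAffineOpen_mem_and_subset (U := ⊤) (x := t) trivial
      obtain ⟨n, a, W, -, hW⟩ := (GrpQuot.SubDesc.flat_and_isQCCovering f hf).2 ⟨V, hV⟩
      have ht : t ∈ (V : Set T.left) := htV
      rw [← hW, Set.mem_iUnion] at ht
      obtain ⟨k, z, -, hz⟩ := ht
      exact ⟨a k, z, hz⟩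
    obtain ⟨w, hw⟩ := surjective_ofPt hps (Points.ofPt (x i) t')
    obtain ⟨v, hv⟩ := 𝒱.covers w
    exact ⟨𝒱.idx w, hgs _ i t' ⟨Points.ofScheme _ v, by
      rw [← Points.ofPt_eq_map_ofScheme]
      change Points.ofPt ((yon S).map (Over.homMk (𝒱.f _) rfl : U (𝒱.idx w) ⟶ U₀) ≫ p₀) v = _
      rw [ofPt_map_comp]
      exact (congrArg (Points.ofPt p₀) hv).trans hw⟩⟩
  let 𝒰 : Scheme.Cover.{u} Scheme.fppfPrecoverage.{u} T.left :=
    Scheme.Cover.mkOfCovers 𝒱.I₀ A g hcov fun k => by
      have := hge k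
      exact ⟨inferInstance, inferInstance⟩
  have hflat := (GrpQuot.SubDesc.flat_and_isQCCovering f hf).1
  obtain ⟨G, hG, -⟩ := existsUnique_glue_fppf 𝒰 (fun k => (yon S).map (u k) ≫ c k)
    fun k l R a b e => by
    have hfR : Presieve.ofArrows (fun i => pullback (f i) (a.left ≫ g k))
        (fun i => pullback.snd (f i) (a.left ≫ g k)) ∈ Scheme.fpqcPrecoverage R.left := by
      have : Scheme.fpqcPrecoverage.{u}.IsStableUnderBaseChange := inferInstance
      exact Precoverage.mem_coverings_of_isPullback f hf (a.left ≫ g k)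
        _ (fun i => pullback.fst (f i) (a.left ≫ g k))
        (fun i => (IsPullback.of_hasPullback (f i) (a.left ≫ g k)).flip)
    refine hom_ext_fpqc hX hfR fun i => ?_
    let Q : Over S := Over.mk (pullback.snd (f i) (a.left ≫ g k) ≫ R.hom)
    let q : Q ⟶ R := Over.homMk (pullback.snd (f i) (a.left ≫ g k)) rfl
    let r' : Q ⟶ mem f i := Over.homMk (pullback.fst (f i) (a.left ≫ g k)) (by
      show pullback.fst _ _ ≫ f i ≫ T.hom = pullback.snd _ _ ≫ R.hom
      rw [pullback.condition_assoc, Category.assoc, ← Over.w a]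
      rfl)
    have e' : a.left ≫ g k = b.left ≫ g l := congrArg CommaMorphism.left e
    have ha := hgx k i Q (q ≫ a) r' (by
      change (pullback.snd _ _ ≫ a.left) ≫ g k = pullback.fst _ _ ≫ f i
      rw [Category.assoc, ← pullback.condition])
    have hb := hgx l i Q (q ≫ b) r' (by
      change (pullback.snd _ _ ≫ b.left) ≫ g l = pullback.fst _ _ ≫ f i
      rw [Category.assoc, ← e', ← pullback.condition])
    rw [Functor.map_comp, Category.assoc] at ha hb
    exact ha.trans hb.symm
  refine ⟨G, fun i => ?_⟩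
  -- checked on the étale cover pulled back to the member
  let 𝒰i : Scheme.Cover.{u} Scheme.fppfPrecoverage.{u} (mem f i).left :=
    Scheme.Cover.mkOfCovers 𝒱.I₀ (fun k => pullback (g k) (f i)) (fun k => pullback.snd (g k) (f i))
      (fun t => by
        obtain ⟨k, a, ha⟩ := hcov (f i t)
        obtain ⟨z, -, hz⟩ := Scheme.Pullback.exists_preimage_pullback a t ha
        exact ⟨k, z, hz⟩) fun k => by
      have := hge k
      have : Etale (pullback.snd (g k) (f i)) := MorphismProperty.pullback_snd _ _ ‹_›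
      exact ⟨inferInstance, inferInstance⟩
  refine hom_ext_fppf 𝒰i fun k => ?_
  let Q : Over S := Over.mk (pullback.snd (g k) (f i) ≫ f i ≫ T.hom)
  let r' : Q ⟶ mem f i := Over.homMk (pullback.snd (g k) (f i)) rfl
  let r : Q ⟶ Over.mk (g k ≫ T.hom) := Over.homMk (pullback.fst (g k) (f i)) (by
    show pullback.fst _ _ ≫ g k ≫ T.hom = pullback.snd _ _ ≫ f i ≫ T.hom
    rw [pullback.condition_assoc])
  have hr : r ≫ (Over.homMk (g k) rfl : Over.mk (g k ≫ T.hom) ⟶ T) =
      r' ≫ (Over.homMk (f i) rfl : mem f i ⟶ T) := Over.OverMorphism.ext pullback.condition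
  have := hgx k i Q r r' pullback.condition
  change (yon S).map r' ≫ (yon S).map (Over.homMk (f i) rfl : mem f i ⟶ T) ≫ G =
    (yon S).map r' ≫ x i
  rw [← this, ← Functor.map_comp_assoc, ← hr, Functor.map_comp_assoc]
  exact congrArg ((yon S).map r ≫ ·) (hG k)

theorem exists_family {T : Over S} {R : Sieve T} (hR : R ∈ (Scheme.fpqcTopology.over S) T) :
    ∃ (ι : Type u) (Y : ι → Scheme.{u}) (f : ∀ i, Y i ⟶ T.left),
      Presieve.ofArrows Y f ∈ Scheme.fpqcPrecoverage T.left ∧
        ∀ i, R (Over.homMk (f i) rfl : mem f i ⟶ T) := by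
  rw [GrothendieckTopology.mem_over_iff,
    Precoverage.mem_toGrothendieck_iff_of_isStableUnderComposition] at hR
  obtain ⟨P, hP, hle⟩ := hR
  obtain ⟨𝒰, rfl⟩ := P.exists_eq_preZeroHypercover
  have : Precoverage.Small.{u} Scheme.fpqcPrecoverage.{u} :=
    inferInstanceAs (Precoverage.Small.{u} (Scheme.propQCPrecoverage @Flat))
  let 𝒱 : Scheme.Cover.{u+1} Scheme.fpqcPrecoverage.{u} T.left := ⟨𝒰, hP⟩
  let 𝒲 := Precoverage.ZeroHypercover.restrictIndexOfSmall.{u} 𝒱
  exact ⟨𝒲.I₀, 𝒲.X, 𝒲.f, 𝒲.mem₀, fun i => (overEquiv_arrow _ _).1 (hle _ _ ⟨_⟩)⟩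

/-- **Gabber.** An algebraic space is a sheaf for the fpqc topology. -/
theorem isSheaf_fpqc (X : Space S) :
    Presheaf.IsSheaf (Scheme.fpqcTopology.over S) X.obj.obj := by
  rw [isSheaf_iff_isSheaf_of_type]
  intro T R hR x hx
  obtain ⟨ι, Y, f, hf, hfR⟩ := exists_family hR
  let xi : ∀ i, (yon S).obj (mem f i) ⟶ X.obj := fun i => sect.symm (x _ (hfR i))
  have hxi : ∀ {A : Over S} {i : ι} (a : A ⟶ mem f i) (h : R (a ≫ Over.homMk (f i) rfl)),
      (yon S).map a ≫ xi i = sect.symm (x _ h) := fun {A i} a h => by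
    apply sect.injective
    rw [← GrothendieckTopology.uliftYonedaEquiv_naturality, Equiv.apply_symm_apply,
      Equiv.apply_symm_apply]
    exact ((Presieve.compatible_iff_sieveCompatible x).1 hx _ _ (hfR i)).symm
  obtain ⟨g, hg⟩ := exists_glue X.property f hf xi fun A i j a b e => by
    rw [hxi a (R.downward_closed (hfR i) a), hxi b (R.downward_closed (hfR j) b)]
    congr 2
    · exact Over.OverMorphism.ext e
  have hval : ∀ ⦃A : Over S⦄ (h : A ⟶ T) (hh : R h), (yon S).map h ≫ g = sect.symm (x h hh) := by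
    intro A h hh
    have hfA : Presieve.ofArrows (fun i => pullback (f i) h.left)
        (fun i => pullback.snd (f i) h.left) ∈ Scheme.fpqcPrecoverage A.left := by
      have : Scheme.fpqcPrecoverage.{u}.IsStableUnderBaseChange := inferInstance
      exact Precoverage.mem_coverings_of_isPullback f hf h.left
        _ (fun i => pullback.fst (f i) h.left)
        (fun i => (IsPullback.of_hasPullback (f i) h.left).flip)
    refine hom_ext_fpqc X.property hfA fun i => ?_
    let Q : Over S := Over.mk (pullback.snd (f i) h.left ≫ A.hom)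
    let q : Q ⟶ A := Over.homMk (pullback.snd (f i) h.left) rfl
    let r : Q ⟶ mem f i := Over.homMk (pullback.fst (f i) h.left) (by
      show pullback.fst _ _ ≫ f i ≫ T.hom = pullback.snd _ _ ≫ A.hom
      rw [pullback.condition_assoc, Over.w h])
    have hq : q ≫ h = r ≫ (Over.homMk (f i) rfl : mem f i ⟶ T) :=
      Over.OverMorphism.ext pullback.condition.symm
    change (yon S).map q ≫ (yon S).map h ≫ g = (yon S).map q ≫ sect.symm (x h hh)
    rw [← Functor.map_comp_assoc, hq, Functor.map_comp_assoc, hg,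
      hxi r (R.downward_closed (hfR i) r)]
    apply sect.injective
    rw [← GrothendieckTopology.uliftYonedaEquiv_naturality, Equiv.apply_symm_apply,
      Equiv.apply_symm_apply, ← (Presieve.compatible_iff_sieveCompatible x).1 hx _ q hh]
    congr 1
    exact hq.symm
  refine ⟨sect g, fun A h hh => ?_, fun y hy => ?_⟩
  · change X.obj.obj.map h.op (sect g) = _
    rw [GrothendieckTopology.uliftYonedaEquiv_naturality, hval h hh, Equiv.apply_symm_apply]
  · rw [← sect.apply_symm_apply y]
    refine congrArg sect (hom_ext_fpqc X.property hf fun i => ?_)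
    rw [hg]
    apply sect.injective
    rw [← GrothendieckTopology.uliftYonedaEquiv_naturality, Equiv.apply_symm_apply,
      Equiv.apply_symm_apply]
    exact hy _ (hfR i)

end Groth.Agent.Gabber15
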