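import Groth.Agent.Lib.Gabber15.ModifCover
import Groth.Agent.Lib.SchDesc12.SheafDesc
import Groth.Agent.Lib.IndQA12.Calculus
import Groth.Agent.Lib.AlgSpDescent.RepBase2
import Groth.Agent.Lib.AlgSpace.Glue

/-!
# Fpqc descent of quasi-affine morphisms of algebraic spaces
-/

universe u

set_option backward.isDefEq.respectTransparency.types false

open CategoryTheory CategoryTheory.Limits AlgebraicGeometry Opposite

namespace Groth.Agent.Gabber15

open AlgSp AlgSpace AlgSpDecent AlgSpDescent

variable {S : Scheme.{u}}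

/-- A space over a scheme, ind-quasi-affine after a faithfully flat quasi-compact base change, is a scheme. -/
theorem exists_descended_space {X : Sp S} (hX : IsAlgSpace X) {Z V W : Over S} [IsAffine Z.left]
    [IsAffine V.left] {π : X ⟶ (yon S).obj Z} {v : V ⟶ Z} [Flat v.left] [Surjective v.left]
    {p : W ⟶ V} {m : (yon S).obj W ⟶ X} (sq : IsPullback m ((yon S).map p) π ((yon S).map v))
    (hp : MoreMor.IsIndQuasiAffineHom p.left) :
    ∃ (A : Over S) (i : A ⟶ Z) (e : (yon S).obj A ⟶ X) (h : W ⟶ A),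
      IsIso e ∧ e ≫ π = (yon S).map i ∧ IsPullback h p i v := by
  have hfam : Presieve.ofArrows (fun _ : PUnit.{u + 1} => V.left) (fun _ => v.left) ∈
      Scheme.fpqcPrecoverage Z.left := single_mem v
  obtain ⟨U, ⟨iso⟩⟩ := SchDesc12.exists_iso_of_isEffective (SchDesc12.sheafDatum sq)
    (SchDesc12.isEffective_of_isIndQuasiAffineHom hfam fun _ => hp)
  let A : Over S := Over.mk (U.hom ≫ Z.hom)
  let i : A ⟶ Z := Over.homMk U.hom rfl
  let E : W.left ⟶ pullback v.left U.hom := iso.inv.hom.left
  let E' : pullback v.left U.hom ⟶ W.left := iso.hom.hom.left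
  have hE₁ : E ≫ E' = 𝟙 _ :=
    congrArg (fun b : SchDesc12.sheafDatum sq ⟶ SchDesc12.sheafDatum sq => b.hom.left) iso.inv_hom_id
  have hE₂ : E' ≫ E = 𝟙 _ := congrArg
    (fun b : (Desc.toDD v.left).obj U ⟶ (Desc.toDD v.left).obj U => b.hom.left) iso.hom_inv_id
  have hEp : E ≫ pullback.fst v.left U.hom = p.left := Over.w iso.inv.hom
  let h : W ⟶ A := Over.homMk (E ≫ pullback.snd v.left U.hom) (by
    show (E ≫ pullback.snd v.left U.hom) ≫ U.hom ≫ Z.hom = W.hom
    rw [Category.assoc, ← pullback.condition_assoc, reassoc_of% hEp, Over.w v, Over.w p])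
  have hleft : IsPullback h.left p.left i.left v.left :=
    IsPullback.of_iso (IsPullback.of_hasPullback v.left U.hom).flip ⟨E', E, hE₂, hE₁⟩ (Iso.refl _)
      (Iso.refl _) (Iso.refl _)
      (by
        show pullback.snd v.left U.hom ≫ 𝟙 _ = E' ≫ E ≫ pullback.snd v.left U.hom
        rw [reassoc_of% hE₂, Category.comp_id])
      (by
        show pullback.fst v.left U.hom ≫ 𝟙 _ = E' ≫ p.left
        rw [← hEp, reassoc_of% hE₂, Category.comp_id])
      (by simp [i]) (by simp)
  have sqh : IsPullback h p i v := IsPullback.of_map_of_faithful (Over.forget S) hleft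
  have : Flat h.left := MorphismProperty.of_isPullback hleft.flip ‹Flat v.left›
  have : Surjective h.left := MorphismProperty.of_isPullback hleft.flip ‹Surjective v.left›
  have : QuasiCompact h.left :=
    MorphismProperty.of_isPullback hleft.flip (inferInstance : QuasiCompact v.left)
  -- points with the same image in `A` have the same image in `X`
  have hagree : ∀ {T : Over S} (a b : T ⟶ W), a.left ≫ h.left = b.left ≫ h.left →
      (yon S).map a ≫ m = (yon S).map b ≫ m := by
    intro T a b hab
    have hv : (a ≫ p).left ≫ v.left = (b ≫ p).left ≫ v.left := by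
      simp only [Over.comp_left, Category.assoc, ← hleft.w, reassoc_of% hab]
    let w : Desc.Lifts (SchDesc12.sheafDatum sq).obj (a ≫ p).left := ⟨a.left, rfl⟩
    let t := SchDesc12.trPt sq (a ≫ p).left (b ≫ p).left hv w
    have hc := iso.inv.comm (a ≫ p).left (b ≫ p).left hv w
      ⟨a.left ≫ E, by
        show (a.left ≫ E) ≫ pullback.fst v.left U.hom = (a ≫ p).left
        rw [Category.assoc, hEp]; rfl⟩ rfl
    have e₁ : t.1 ≫ h.left = b.left ≫ h.left := by
      rw [← hab]
      change t.1 ≫ E ≫ _ = a.left ≫ E ≫ _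
      rw [← Category.assoc, ← Category.assoc, show t.1 ≫ E = _ from hc.symm]
      exact pullback.lift_snd _ _ _
    have e₂ : t.1 = b.left := hleft.hom_ext e₁ t.2
    exact (SchDesc12.trPt_spec sq (a ≫ p) (b ≫ p) hv a b w rfl e₂.symm).symm
  obtain ⟨e, he⟩ := exists_glue hX (fun _ : PUnit.{u + 1} => h.left) (single_mem h)
    (fun _ => (yon S).map (Over.homMk (𝟙 W.left) ((Category.id_comp _).trans (Over.w h).symm) :
      Over.mk (h.left ≫ A.hom) ⟶ W) ≫ m) fun T _ _ a b hab => by
    rw [← Functor.map_comp_assoc, ← Functor.map_comp_assoc]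
    refine hagree _ _ ?_
    change (a.left ≫ 𝟙 W.left) ≫ h.left = (b.left ≫ 𝟙 W.left) ≫ h.left
    rw [show a.left ≫ 𝟙 W.left = a.left from Category.comp_id _,
      show b.left ≫ 𝟙 W.left = b.left from Category.comp_id _]
    exact hab
  let eW : W ⟶ Over.mk (h.left ≫ A.hom) :=
    Over.homMk (𝟙 W.left) ((Category.id_comp _).trans (Over.w h))
  have hm : (yon S).map h ≫ e = m := by
    have hh : h = eW ≫ (Over.homMk h.left rfl : Over.mk (h.left ≫ A.hom) ⟶ A) :=
      Over.OverMorphism.ext (Category.id_comp _).symm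
    rw [hh, Functor.map_comp_assoc, he ⟨⟩, ← Functor.map_comp_assoc]
    have : eW ≫ (Over.homMk (𝟙 W.left) ((Category.id_comp _).trans (Over.w h).symm) :
        Over.mk (h.left ≫ A.hom) ⟶ W) = 𝟙 W := Over.OverMorphism.ext (Category.id_comp _)
    rw [this, CategoryTheory.Functor.map_id, Category.id_comp]
  have hei : e ≫ π = (yon S).map i := hom_ext_single (IsAlgSpace.yon_obj Z) h (by
    rw [reassoc_of% hm, sq.w, ← Functor.map_comp, ← Functor.map_comp, sqh.w])
  have sqm : IsPullback ((yon S).map h) (𝟙 _) e m := by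
    refine IsPullback.flip (IsPullback.of_right ?_ (by rw [hm, Category.id_comp]) sq.flip)
    rw [hei, Category.id_comp]
    exact (sqh.map (yon S)).flip
  have hcov : IsFpqcCover (fun _ : ULift.{u} (Fin 1) => (yon S).obj W) (fun _ => m) :=
    isFpqcCover_of_isPullback (IsAlgSpace.yon_obj Z) hX π (fun _ => IsAlgSpace.yon_obj V)
      (fun _ => sq) (isFpqcCover_of_finite (fun _ => V) (fun _ => v) (fun _ => inferInstance)
        (fun _ => inferInstance) fun a => ⟨0, Surjective.surj a⟩)
  have hiso : IsIso e := (isLocalOnBase_fpqc_isomorphisms (S := S) _ _ hX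
    (fun _ => IsAlgSpace.yon_obj W) hcov e (IsAlgSpace.yon_obj A) (fun _ => (yon S).obj W)
    (fun _ => 𝟙 _) (fun _ => (yon S).map h)
    (fun _ => IsAlgSpace.yon_obj W) fun _ => sqm).2 fun _ => inferInstanceAs (IsIso (𝟙 _))
  exact ⟨A, i, e, h, hiso, hei, sqh⟩

/-- Quasi-affine morphisms are fpqc local on the base. -/
theorem isLocalOnBase_fpqc_isQuasiAffineMor :
    IsLocalOnBase (IsFpqcCover (S := S)) IsQuasiAffineMor := by
  intro ι Y Yi g hY hYi hg X f hX Xi p q hXi sq
  refine ⟨fun hf i Z hZ t => ?_, fun hp Z hZ t => ?_⟩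
  · obtain ⟨W, a, fst, sqW, hW⟩ := hf hZ (t ≫ g i)
    refine ⟨W, a, (sq i).lift fst ((yon S).map a ≫ t) (by rw [Category.assoc, sqW.w]), ?_, hW⟩
    exact IsPullback.of_right (by rw [(sq i).lift_fst]; exact sqW) ((sq i).lift_snd _ _ _) (sq i)
  obtain ⟨n, W, c, hW, hc, hcs, hl⟩ := hg.2 Z hZ t
  choose k l hl using hl
  have hQ : ∀ j, ∃ (Q : Over S) (a : Q ⟶ W j) (m : (yon S).obj Q ⟶ X),
      IsPullback m ((yon S).map a) f ((yon S).map (c j) ≫ t) ∧ Q.left.IsQuasiAffine := fun j => by
    obtain ⟨Q, a, fst, sqQ, hQ⟩ := hp (k j) (hW j) (l j)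
    have big := sqQ.paste_horiz (sq (k j))
    rw [hl j] at big
    exact ⟨Q, a, _, big, hQ⟩
  choose Q aQ mQ sqQ hQqa using hQ
  let V : Over S := Over.mk (Sigma.desc fun j => (W j).hom)
  have : IsAffine V.left := inferInstanceAs (IsAffine (∐ fun j => (W j).left))
  let inj : ∀ j, W j ⟶ V := fun j => Over.homMk (Sigma.ι (fun j => (W j).left) j) (Sigma.ι_desc _ _)
  let v : V ⟶ Z := Over.homMk (Sigma.desc fun j => (c j).left)
    (Sigma.hom_ext _ _ fun j => by simp [V])
  have hv : ∀ j, inj j ≫ v = c j := fun j => Over.OverMorphism.ext (Sigma.ι_desc _ _)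
  have : Flat v.left := IsZariskiLocalAtSource.sigmaDesc hc
  have : Surjective v.left := Surjective.sigmaDesc_of_union_range_eq_univ
    (Set.eq_univ_iff_forall.2 fun z => Set.mem_iUnion.2 (hcs z))
  have sqX := IsPullback.of_hasPullback f t
  have sqV := IsPullback.of_hasPullback (pullback.snd f t) ((yon S).map v)
  let πV := pullback.snd (pullback.snd f t) ((yon S).map v)
  have hrep : Representable πV := representable_of_zariski πV fun T g' τ => by
    obtain ⟨g', rfl⟩ := (yon S).map_surjective g'
    obtain ⟨j, w, hw⟩ := (sigmaOpenCover fun j => (W j).left).exists_eq (g'.left τ)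
    let O : T.left.Opens := g'.left ⁻¹ᵁ (Sigma.ι (fun j => (W j).left) j).opensRange
    have hr : Set.range (O.ι ≫ g'.left) ⊆ Set.range (Sigma.ι (fun j => (W j).left) j) := by
      rintro _ ⟨x, rfl⟩; exact x.2
    let k' : Over.mk (O.ι ≫ T.hom) ⟶ W j := Over.homMk (IsOpenImmersion.lift _ _ hr) (by
      change IsOpenImmersion.lift _ _ hr ≫ (W j).hom = O.ι ≫ T.hom
      rw [← Over.w (inj j), ← Over.w g']
      exact IsOpenImmersion.lift_fac_assoc _ _ hr _)
    have hk' : k' ≫ inj j = overArrow O.ι ≫ g' :=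
      Over.OverMorphism.ext (IsOpenImmersion.lift_fac _ _ hr)
    have sql := (IsPullback.of_hasPullback (aQ j) k').map (yon S)
    have big := sql.paste_horiz (sqQ j)
    have e : (yon S).map k' ≫ (yon S).map (c j) ≫ t =
        (((yon S).map (overArrow O.ι) ≫ (yon S).map g') ≫ (yon S).map v) ≫ t := by
      rw [← Functor.map_comp, ← hk', ← Functor.map_comp, Category.assoc, hv, ← Functor.map_comp_assoc]
    rw [e] at big
    have big' := IsPullback.of_right' big sqX
    exact ⟨O, ⟨w, hw⟩, _, _, _, IsPullback.of_right' big' sqV⟩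
  let Wv := hrep.pullback (𝟙 ((yon S).obj V))
  let pv : Wv ⟶ V := hrep.snd (𝟙 _)
  have sqWv := hrep.isPullback (𝟙 ((yon S).obj V))
  have sqW' : IsPullback (hrep.fst (𝟙 _) ≫ pullback.fst _ _) ((yon S).map pv) (pullback.snd f t)
      ((yon S).map v) := by
    simpa [pv] using sqWv.paste_horiz sqV
  -- the pieces over the members
  have hpieces : ∀ j, ∃ e : pullback pv.left (inj j).left ≅ (Q j).left,
      e.hom ≫ (aQ j).left = pullback.snd _ _ := by
    intro j
    have s₁ := ((IsPullback.of_hasPullback pv (inj j)).map (yon S)).paste_horiz sqW'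
    have s₂ := s₁.paste_horiz sqX
    rw [← Functor.map_comp, hv j] at s₂
    let e₀ := (yon S).preimageIso (s₂.isoIsPullback _ _ (sqQ j))
    have he₀ : e₀.hom ≫ aQ j = pullback.snd pv (inj j) := (yon S).map_injective (by simp [e₀])
    refine ⟨((IsPullback.of_hasPullback pv (inj j)).map (Over.forget S)).isoPullback.symm ≪≫
      (Over.forget S).mapIso e₀, ?_⟩
    have := congrArg (fun φ => φ.left) he₀
    simp only [Over.comp_left] at this
    rw [Iso.trans_hom, Category.assoc]
    change _ ≫ e₀.hom.left ≫ (aQ j).left = _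
    rw [this]
    exact ((IsPullback.of_hasPullback pv (inj j)).map (Over.forget S)).isoPullback_inv_snd
  choose eQ heQ using hpieces
  have hinjo : ∀ j, IsOpenImmersion (inj j).left := fun j =>
    inferInstanceAs (IsOpenImmersion (Sigma.ι (fun j => (W j).left) j))
  have hrange : ∀ j, (pv.left ⁻¹ᵁ (inj j).left.opensRange) = (pullback.fst pv.left (inj j).left).opensRange :=
    fun j => by
      have := hinjo j
      apply TopologicalSpace.Opens.ext
      exact (IsOpenImmersion.range_pullbackFst (inj j).left pv.left).symm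
  have hind : MoreMor.IsIndQuasiAffineHom pv.left := IndQA12.of_cover _ fun y => by
    obtain ⟨j, w, hw⟩ := (sigmaOpenCover fun j => (W j).left).exists_eq y
    have := hinjo j
    refine ⟨(inj j).left.opensRange, ⟨w, hw⟩, fun O hO hOc => ?_⟩
    have := hQqa j
    have : (pullback pv.left (inj j).left).IsQuasiAffine := QA11.isQuasiAffine_of_iso (eQ j).hom
    have : (pullback.fst pv.left (inj j).left).opensRange.toScheme.IsQuasiAffine :=
      QA11.isQuasiAffine_of_iso (pullback.fst pv.left (inj j).left).isoOpensRange.inv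
    exact QA11.isQuasiAffine_of_le (V := (pullback.fst pv.left (inj j).left).opensRange)
      ((hrange j) ▸ hO) hOc
  have hWvc : CompactSpace ↥Wv.left := by
    have hu : (Set.univ : Set ↥Wv.left) = ⋃ j, Set.range (pullback.fst pv.left (inj j).left) := by
      refine (Set.eq_univ_iff_forall.2 fun x => ?_).symm
      obtain ⟨j, w, hw⟩ := (sigmaOpenCover fun j => (W j).left).exists_eq (pv.left x)
      obtain ⟨z, hz, -⟩ := Scheme.Pullback.exists_preimage_pullback (f := pv.left) (g := (inj j).left) x w hw.symm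
      exact Set.mem_iUnion.2 ⟨j, z, hz⟩
    refine isCompact_univ_iff.1 ?_
    rw [hu]
    refine isCompact_iUnion fun j => ?_
    have := hQqa j
    have : CompactSpace ↥(pullback pv.left (inj j).left) :=
      (Scheme.homeoOfIso (eQ j)).symm.compactSpace
    exact isCompact_range (pullback.fst pv.left (inj j).left).continuous
  obtain ⟨A, i, e, h, he, hei, sqh⟩ := exists_descended_space
    (isAlgSpace_pullback hY hX (IsAlgSpace.yon_obj Z) sqX) sqW' hind
  refine ⟨A, i, e ≫ pullback.fst f t, ?_, ?_⟩
  · exact IsPullback.of_iso sqX (asIso e).symm (Iso.refl _) (Iso.refl _) (Iso.refl _) (by simp)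
      (by simp [← hei]) (by simp) (by simp)
  · have hl' : IsPullback h.left pv.left i.left v.left := sqh.map (Over.forget S)
    have hiA : MoreMor.IsIndQuasiAffineHom i.left := IndQA12.of_baseChange hl' hind
    have : Surjective h.left := MorphismProperty.of_isPullback hl'.flip ‹Surjective v.left›
    have : CompactSpace ↥A.left := by
      refine isCompact_univ_iff.1 ?_
      rw [← h.left.surjective.range_eq]
      exact isCompact_range h.left.continuous
    have : (⊤ : A.left.Opens).toScheme.IsQuasiAffine :=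
      IndQA12.isQuasiAffine_of_le hiA (isAffineOpen_top Z.left) (fun _ _ => trivial) isCompact_univ
    exact QA11.isQuasiAffine_of_iso A.left.topIso.inv

end Groth.Agent.Gabber15
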