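import Groth.Agent.Lib.SchDesc12.IndQuasiAffine
import Groth.Agent.Lib.SchDesc12.LQF
import Groth.Agent.Lib.AlgSpDescent.LocalBase
import Groth.Agent.Lib.AlgSpDescent.Instances
import Groth.Agent.Lib.AlgSpace.Points

/-!
# Descending the lifts to a chart of an fpqc-compatible family of points

For a chart `a : U ⟶ X` and points `x i` of `X` over an fpqc family `f i : Ti i ⟶ T`, compatible
on overlaps, the base changes `Ti i ×_X U` descend to a scheme over `T` with a map to `U`.
-/

universe u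

set_option backward.isDefEq.respectTransparency.types false

open CategoryTheory CategoryTheory.Limits AlgebraicGeometry Opposite

namespace Groth.Agent.Gabber15

open AlgSp AlgSpace AlgSpDecent

variable {S : Scheme.{u}}

/-- A member of a family over `T`, as a scheme over `S`. -/
abbrev mem {T : Over S} {ι : Type u} {Y : ι → Scheme.{u}} (f : ∀ i, Y i ⟶ T.left) (i : ι) : Over S :=
  Over.mk (f i ≫ T.hom)

variable {X : Sp S} {T : Over S} {ι : Type u} {Y : ι → Scheme.{u}} (f : ∀ i, Y i ⟶ T.left)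
  (x : ∀ i, (yon S).obj (mem f i) ⟶ X)

/-- Compatibility of points on the members of a family. -/
def Compat : Prop :=
  ∀ ⦃A : Over S⦄ ⦃i j : ι⦄ (a : A ⟶ mem f i) (b : A ⟶ mem f j), a.left ≫ f i = b.left ≫ f j →
    (yon S).map a ≫ x i = (yon S).map b ≫ x j

variable {U : Over S} {c : (yon S).obj U ⟶ X} (hc : Representable c) (hx : Compat f x)

/-- The lifts of the member points. -/
noncomputable abbrev W (i : ι) : Over S := hc.pullback (x i)

/-- The projection to the chart. -/
noncomputable def up (i : ι) : W f x hc i ⟶ U := (yon S).preimage (hc.fst (x i))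

theorem map_up (i : ι) : (yon S).map (up f x hc i) = hc.fst (x i) := Functor.map_preimage _ _

theorem sq (i : ι) :
    IsPullback ((yon S).map (up f x hc i)) ((yon S).map (hc.snd (x i))) c (x i) := by
  rw [map_up]
  exact hc.isPullback (x i)

include hx in
/-- Translation between lifts over points with the same image in `T`. -/
theorem existsUnique_translate {R : Scheme.{u}} {i j : ι} (y₀ : R ⟶ Y i) (y₁ : R ⟶ Y j)
    (h : y₀ ≫ f i = y₁ ≫ f j) (v : Desc.Lifts (Over.mk (hc.snd (x i)).left) y₀) :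
    ∃! w : Desc.Lifts (Over.mk (hc.snd (x j)).left) y₁,
      w.1 ≫ (up f x hc j).left = v.1 ≫ (up f x hc i).left := by
  let A : Over S := Over.mk (y₁ ≫ f j ≫ T.hom)
  let b : A ⟶ mem f j := Over.homMk y₁ rfl
  let a₀ : A ⟶ mem f i := Over.homMk y₀ (by
    show y₀ ≫ f i ≫ T.hom = y₁ ≫ f j ≫ T.hom
    rw [reassoc_of% h])
  let a : A ⟶ W f x hc i := Over.homMk v.1 (by
    show v.1 ≫ (W f x hc i).hom = A.hom
    rw [← Over.w (hc.snd (x i)), ← Category.assoc,
      show v.1 ≫ (hc.snd (x i)).left = y₀ from v.2]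
    exact Over.w a₀)
  have ha : a ≫ hc.snd (x i) = a₀ := Over.OverMorphism.ext v.2
  have hcond : ((yon S).map a ≫ (yon S).map (up f x hc i)) ≫ c = (yon S).map b ≫ x j := by
    rw [Category.assoc, (sq f x hc i).w, ← Category.assoc, ← Functor.map_comp, ha]
    exact hx a₀ b h
  obtain ⟨l, hl⟩ := (yon S).map_surjective ((sq f x hc j).lift _ _ hcond)
  have hl₁ : l ≫ up f x hc j = a ≫ up f x hc i := (yon S).map_injective (by
    rw [Functor.map_comp, hl, IsPullback.lift_fst, Functor.map_comp])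
  have hl₂ : l ≫ hc.snd (x j) = b := (yon S).map_injective (by
    rw [Functor.map_comp, hl, IsPullback.lift_snd])
  refine ⟨⟨l.left, congrArg CommaMorphism.left hl₂⟩, congrArg CommaMorphism.left hl₁,
    fun w hw => Subtype.ext ?_⟩
  let w' : A ⟶ W f x hc j := Over.homMk w.1 (by
    show w.1 ≫ (W f x hc j).hom = A.hom
    rw [← Over.w (hc.snd (x j)), ← Category.assoc,
      show w.1 ≫ (hc.snd (x j)).left = y₁ from w.2]
    exact Over.w b)
  have : w' = l := (yon S).map_injective ((sq f x hc j).hom_ext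
    (by rw [← Functor.map_comp, ← Functor.map_comp, hl₁]
        exact congrArg _ (Over.OverMorphism.ext hw))
    (by rw [← Functor.map_comp, ← Functor.map_comp, hl₂]
        exact congrArg _ (Over.OverMorphism.ext w.2)))
  exact congrArg CommaMorphism.left this

/-- Translation of lifts. -/
noncomputable def tr {R : Scheme.{u}} {i j : ι} (y₀ : R ⟶ Y i) (y₁ : R ⟶ Y j)
    (h : y₀ ≫ f i = y₁ ≫ f j) (v : Desc.Lifts (Over.mk (hc.snd (x i)).left) y₀) :
    Desc.Lifts (Over.mk (hc.snd (x j)).left) y₁ :=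
  (existsUnique_translate f x hc hx y₀ y₁ h v).exists.choose

theorem tr_spec {R : Scheme.{u}} {i j : ι} (y₀ : R ⟶ Y i) (y₁ : R ⟶ Y j)
    (h : y₀ ≫ f i = y₁ ≫ f j) (v : Desc.Lifts (Over.mk (hc.snd (x i)).left) y₀) :
    (tr f x hc hx y₀ y₁ h v).1 ≫ (up f x hc j).left = v.1 ≫ (up f x hc i).left :=
  (existsUnique_translate f x hc hx y₀ y₁ h v).exists.choose_spec

theorem tr_eq {R : Scheme.{u}} {i j : ι} (y₀ : R ⟶ Y i) (y₁ : R ⟶ Y j)
    (h : y₀ ≫ f i = y₁ ≫ f j) (v : Desc.Lifts (Over.mk (hc.snd (x i)).left) y₀)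
    (w : Desc.Lifts (Over.mk (hc.snd (x j)).left) y₁)
    (hw : w.1 ≫ (up f x hc j).left = v.1 ≫ (up f x hc i).left) : tr f x hc hx y₀ y₁ h v = w :=
  (existsUnique_translate f x hc hx y₀ y₁ h v).unique (tr_spec f x hc hx y₀ y₁ h v) hw

/-- The descent datum of the lifts. -/
noncomputable def datum : Desc.SchDDFam f where
  obj i := Over.mk (hc.snd (x i)).left
  φ R i j y₀ y₁ h :=
    { toFun := tr f x hc hx y₀ y₁ h
      invFun := tr f x hc hx y₁ y₀ h.symm
      left_inv := fun v => tr_eq f x hc hx _ _ _ _ _ (tr_spec f x hc hx y₀ y₁ h v).symm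
      right_inv := fun v => tr_eq f x hc hx _ _ _ _ _ (tr_spec f x hc hx y₁ y₀ h.symm v).symm }
  φ_natural R R' g i j y₀ y₁ h z₀ z₁ e₀ e₁ h' v v' hv := by
    refine congrArg Subtype.val (tr_eq f x hc hx z₀ z₁ h' v'
      ⟨g ≫ (tr f x hc hx y₀ y₁ h v).1, by
        rw [Category.assoc]
        exact (congrArg (g ≫ ·) (tr f x hc hx y₀ y₁ h v).2).trans e₁⟩ ?_)
    simp only [Category.assoc, tr_spec, hv]
  φ_self R i y v := tr_eq f x hc hx y y rfl v v rfl
  φ_comp R i j k y₀ y₁ y₂ h₀₁ h₁₂ v :=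
    tr_eq f x hc hx y₁ y₂ h₁₂ (tr f x hc hx y₀ y₁ h₀₁ v) (tr f x hc hx y₀ y₂ (h₀₁.trans h₁₂) v) (by
      change (tr f x hc hx y₀ y₂ (h₀₁.trans h₁₂) v).1 ≫ _ =
        (tr f x hc hx y₀ y₁ h₀₁ v).1 ≫ _
      rw [tr_spec, tr_spec])

include hc hx in
/-- Descended lifts of a compatible family, for an étale chart by an affine scheme. -/
theorem exists_descended [IsAffine U.left] (hce : RepWith @Etale c)
    (hf : Presieve.ofArrows Y f ∈ Scheme.fpqcPrecoverage T.left) :
    ∃ (A : Scheme.{u}) (g : A ⟶ T.left) (u : Over.mk (g ≫ T.hom) ⟶ U), Etale g ∧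
      (∀ i (R : Over S) (r : R ⟶ Over.mk (g ≫ T.hom)) (r' : R ⟶ mem f i),
        r.left ≫ g = r'.left ≫ f i →
          (yon S).map r ≫ (yon S).map u ≫ c = (yon S).map r' ≫ x i) ∧
      ∀ i (t : ↥(Y i)), Points.ofPt (x i) t ∈ Set.range (Points.map c) → f i t ∈ Set.range g := by
  have het : ∀ i, Etale (hc.snd (x i)).left := fun i => hce.2 _ _ _ (sq f x hc i)
  have hsep : ∀ i, IsSeparated (hc.snd (x i)).left := fun i => by
    let l : (W f x hc i).left ⟶ pullback U.hom (mem f i).hom :=
      pullback.lift (up f x hc i).left (hc.snd (x i)).left (by rw [Over.w, Over.w])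
    have : Mono l := ⟨fun {R} r r' e => by
      have e₁ : r ≫ (up f x hc i).left = r' ≫ (up f x hc i).left := by
        simpa [l, pullback.lift_fst] using congrArg (· ≫ pullback.fst _ _) e
      have e₂ : r ≫ (hc.snd (x i)).left = r' ≫ (hc.snd (x i)).left := by
        simpa [l, pullback.lift_snd] using congrArg (· ≫ pullback.snd _ _) e
      let R' : Over S := Over.mk (r ≫ (W f x hc i).hom)
      let a : R' ⟶ W f x hc i := Over.homMk r rfl
      let b : R' ⟶ W f x hc i := Over.homMk r' (by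
        show r' ≫ (W f x hc i).hom = r ≫ (W f x hc i).hom
        rw [← Over.w (hc.snd (x i)), reassoc_of% e₂])
      have : a = b := (yon S).map_injective ((sq f x hc i).hom_ext
        (by rw [← Functor.map_comp, ← Functor.map_comp]
            exact congrArg _ (Over.OverMorphism.ext e₁))
        (by rw [← Functor.map_comp, ← Functor.map_comp]
            exact congrArg _ (Over.OverMorphism.ext e₂)))
      exact congrArg CommaMorphism.left this⟩
    have : IsSeparated U.hom := inferInstance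
    have : IsSeparated (pullback.snd U.hom (mem f i).hom) :=
      MorphismProperty.pullback_snd _ _ inferInstance
    have e : l ≫ pullback.snd U.hom (mem f i).hom = (hc.snd (x i)).left := pullback.lift_snd _ _ _
    rw [← e]
    infer_instance
  obtain ⟨A₀, ⟨iso⟩⟩ : (datum f x hc hx).IsEffective := by
    refine SchDesc12.isEffective_of_isIndQuasiAffineHom hf fun i V hV K hK => ?_
    have := het i
    have := hsep i
    have := SchDesc12.locallyQuasiFinite_of_etale (hc.snd (x i)).left
    have : IsAffine V.toScheme := hV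
    let q : ((datum f x hc hx).obj i).left ⟶ Y i := (hc.snd (x i)).left
    have : Etale q := het i
    have : IsSeparated q := hsep i
    have : LocallyQuasiFinite q := ‹LocallyQuasiFinite (hc.snd (x i)).left›
    have : IsSeparated (q ∣_ V) := IsZariskiLocalAtTarget.restrict ‹IsSeparated q› V
    have : LocallyQuasiFinite (q ∣_ V) := IsZariskiLocalAtTarget.restrict ‹LocallyQuasiFinite q› V
    have : LocallyOfFiniteType (q ∣_ V) :=
      IsZariskiLocalAtTarget.restrict (inferInstance : LocallyOfFiniteType q) V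
    have : CompactSpace K.toScheme := isCompact_iff_compactSpace.mp hK
    have : LocallyQuasiFinite (K.ι ≫ q ∣_ V) :=
      MorphismProperty.comp_mem _ _ _ inferInstance ‹LocallyQuasiFinite (q ∣_ V)›
    have : LocallyOfFiniteType (K.ι ≫ q ∣_ V) :=
      MorphismProperty.comp_mem _ _ _ inferInstance ‹LocallyOfFiniteType (q ∣_ V)›
    have : IsSeparated (K.ι ≫ q ∣_ V) :=
      MorphismProperty.comp_mem _ _ _ inferInstance ‹IsSeparated (q ∣_ V)›
    exact SchDesc12.isQuasiAffine_of_lqf (K.ι ≫ q ∣_ V)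
  let E : ∀ i, pullback (f i) A₀.hom ⟶ (W f x hc i).left := fun i => (iso.hom.hom i).left
  have hE : ∀ i, E i ≫ (hc.snd (x i)).left = pullback.fst (f i) A₀.hom := fun i =>
    Over.w (iso.hom.hom i)
  have hEiso : ∀ i, IsIso (E i) := fun i =>
    ⟨(iso.inv.hom i).left,
      congrArg CommaMorphism.left (congrArg (fun e => e.hom i) iso.hom_inv_id),
      congrArg CommaMorphism.left (congrArg (fun e => e.hom i) iso.inv_hom_id)⟩
  have hagree : ∀ {R : Scheme.{u}} {i j : ι} (z₀ : R ⟶ pullback (f i) A₀.hom)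
      (z₁ : R ⟶ pullback (f j) A₀.hom),
      z₀ ≫ pullback.snd _ _ = z₁ ≫ pullback.snd _ _ →
      z₀ ≫ E i ≫ (up f x hc i).left = z₁ ≫ E j ≫ (up f x hc j).left := by
    intro R i j z₀ z₁ hz
    have h : (z₀ ≫ pullback.fst _ _) ≫ f i = (z₁ ≫ pullback.fst _ _) ≫ f j := by
      rw [Category.assoc, Category.assoc, pullback.condition, pullback.condition, reassoc_of% hz]
    let v : Desc.Lifts ((Desc.canonicalDDFam f A₀).obj i) (z₀ ≫ pullback.fst _ _) := ⟨z₀, rfl⟩
    have e := iso.hom.comm (z₀ ≫ pullback.fst _ _) (z₁ ≫ pullback.fst _ _) h v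
      ⟨z₀ ≫ E i, by rw [Category.assoc]; exact congrArg (z₀ ≫ ·) (hE i)⟩ rfl
    have hφ : (((Desc.canonicalDDFam f A₀).φ (z₀ ≫ pullback.fst _ _) (z₁ ≫ pullback.fst _ _) h) v).1
        = z₁ := by
      refine (Desc.canMapFam_val f A₀ _ _ h v).trans ?_
      apply pullback.hom_ext
      · rw [pullback.lift_fst]
      · rw [pullback.lift_snd]; exact hz
    have e' : (tr f x hc hx (z₀ ≫ pullback.fst _ _) (z₁ ≫ pullback.fst _ _) h
        ⟨z₀ ≫ E i, by rw [Category.assoc]; exact congrArg (z₀ ≫ ·) (hE i)⟩).1 = z₁ ≫ E j :=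
      e.trans (congrArg (· ≫ E j) hφ)
    rw [← Category.assoc, ← Category.assoc, ← e', tr_spec]
  have hfA : Presieve.ofArrows (fun i => pullback (f i) A₀.hom)
      (fun i => pullback.snd (f i) A₀.hom) ∈ Scheme.fpqcPrecoverage A₀.left := by
    have : Scheme.fpqcPrecoverage.{u}.IsStableUnderBaseChange := inferInstance
    exact Precoverage.mem_coverings_of_isPullback f hf A₀.hom
      _ (fun i => pullback.fst (f i) A₀.hom) (fun i => (IsPullback.of_hasPullback (f i) A₀.hom).flip)
  have hsheaf := (GrothendieckTopology.Subcanonical.isSheaf_of_isRepresentable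
    (J := Scheme.fpqcTopology.{u}) (yoneda.obj U.left)).isSheafFor _
    (Precoverage.generate_mem_toGrothendieck hfA)
  rw [Presieve.isSheafFor_arrows_iff] at hsheaf
  obtain ⟨u₀, hu₀, -⟩ := hsheaf (fun i => E i ≫ (up f x hc i).left)
    (fun i j R z₀ z₁ hz => hagree z₀ z₁ hz)
  change A₀.left ⟶ U.left at u₀
  change ∀ i, pullback.snd (f i) A₀.hom ≫ u₀ = E i ≫ (up f x hc i).left at hu₀
  have hw : u₀ ≫ U.hom = A₀.hom ≫ T.hom := SchDesc12.hom_ext_fpqc _ hfA fun i => by
    rw [reassoc_of% (hu₀ i), Over.w (up f x hc i), ← Over.w (hc.snd (x i)), reassoc_of% (hE i),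
      ← pullback.condition_assoc]
    rfl
  have hsnd : ∀ i, Etale (pullback.fst (f i) A₀.hom) := fun i => by
    rw [← hE i]
    have := hEiso i
    have := het i
    infer_instance
  refine ⟨A₀.left, A₀.hom, Over.homMk u₀ hw, ?_, fun i R r r' e => ?_, fun i t ht => ?_⟩
  · refine (IsZariskiLocalAtTarget.iff_of_iSup_eq_top (P := @Etale)
      (fun V : T.left.affineOpens => V.1) (iSup_affineOpens_eq_top _)).2 fun V => ?_
    obtain ⟨n, a, O, hle, hO, hcov⟩ :=
      SchDesc12.exists_affine_cover_open (GrpQuot.SubDesc.flat_and_isQCCovering f hf).2 V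
    have hflat := (GrpQuot.SubDesc.flat_and_isQCCovering f hf).1
    have : IsAffine V.1.toScheme := V.2
    have : ∀ k, IsAffine (O k).toScheme := fun k => hO k
    have : ∀ k, Flat ((f (a k)).resLE V.1 (O k) (hle k)) := fun k => by
      have := hflat (a k)
      exact IsZariskiLocalAtSource.resLE _ ‹_›
    refine AlgSpDescent.of_fpqc_family (A₀.hom ∣_ V.1) (fun k => (O k).toScheme)
      (fun k => (f (a k)).resLE V.1 (O k) (hle k)) hcov fun k => ?_
    have s₁ := (IsPullback.of_hasPullback (A₀.hom ∣_ V.1)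
      ((f (a k)).resLE V.1 (O k) (hle k))).paste_horiz (isPullback_morphismRestrict A₀.hom V.1).flip
    rw [Scheme.Hom.resLE_comp_ι] at s₁
    have s₂ := (IsPullback.of_hasPullback (pullback.fst (f (a k)) A₀.hom) (O k).ι).paste_horiz
      (IsPullback.of_hasPullback (f (a k)) A₀.hom).flip
    have : Etale (pullback.snd (pullback.fst (f (a k)) A₀.hom) (O k).ι) :=
      MorphismProperty.pullback_snd _ _ (hsnd (a k))
    rw [← s₁.isoIsPullback_hom_snd _ _ s₂]
    infer_instance
  · let z : R.left ⟶ pullback (f i) A₀.hom := pullback.lift r'.left r.left e.symm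
    let b : R ⟶ W f x hc i := Over.homMk (z ≫ E i) (by
      rw [← Over.w (hc.snd (x i)), Category.assoc, reassoc_of% (hE i), pullback.lift_fst_assoc]
      exact Over.w r')
    have hb₁ : b ≫ up f x hc i = r ≫ Over.homMk u₀ hw := Over.OverMorphism.ext (by
      change (z ≫ E i) ≫ (up f x hc i).left = r.left ≫ u₀
      rw [Category.assoc, ← hu₀ i, pullback.lift_snd_assoc])
    have hb₂ : b ≫ hc.snd (x i) = r' := Over.OverMorphism.ext (by
      change (z ≫ E i) ≫ (hc.snd (x i)).left = r'.left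
      rw [Category.assoc, hE i, pullback.lift_fst])
    rw [← Functor.map_comp_assoc, ← hb₁, Functor.map_comp_assoc, (sq f x hc i).w,
      ← Functor.map_comp_assoc, hb₂]
  · obtain ⟨z, hz⟩ := ht
    obtain ⟨w, -, hw'⟩ := exists_pt_of_isPullback (sq f x hc i) hz
    have := hEiso i
    refine ⟨pullback.snd (f i) A₀.hom (inv (E i) w), ?_⟩
    rw [← Scheme.Hom.comp_apply, ← pullback.condition, ← hE i, Scheme.Hom.comp_apply,
      Scheme.Hom.comp_apply, ← Scheme.Hom.comp_apply (inv (E i)) (E i), IsIso.inv_hom_id]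
    exact congrArg _ hw'

end Groth.Agent.Gabber15
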