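import Groth.Agent.Lib.Gabber15.Sheaf
import Groth.Agent.Lib.DistSq15.Cover
import Groth.Prelude.Def_AlgSpCov

/-!
# Morphisms to algebraic spaces glue along fpqc coverings of algebraic spaces
-/

universe u

set_option backward.isDefEq.respectTransparency.types false

open CategoryTheory CategoryTheory.Limits AlgebraicGeometry Opposite

namespace Groth.Agent.Gabber15

open AlgSp AlgSpace AlgSpDecent AlgSpDescent

variable {S : Scheme.{u}} {ι : Type u} {T : Sp S} {Ti : ι → Sp S} {g : ∀ i, Ti i ⟶ T} {B : Sp S}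

theorem single_mem {Z V : Over S} (d : V ⟶ Z) [Flat d.left] [Surjective d.left] [QuasiCompact d.left] :
    Presieve.ofArrows (fun _ : PUnit.{u + 1} => V.left) (fun _ => d.left) ∈
      Scheme.fpqcPrecoverage Z.left := by
  rw [Presieve.ofArrows_pUnit]
  exact Scheme.Hom.singleton_mem_fpqcPrecoverage _

/-- Two points of an algebraic space agree if they do after a flat quasi-compact surjection. -/
theorem hom_ext_single (hB : IsAlgSpace B) {Z V : Over S} (d : V ⟶ Z) [Flat d.left]
    [Surjective d.left] [QuasiCompact d.left] {z z' : (yon S).obj Z ⟶ B}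
    (h : (yon S).map d ≫ z = (yon S).map d ≫ z') : z = z' := by
  refine hom_ext_fpqc hB (single_mem d) fun _ => ?_
  let e : Over.mk (d.left ≫ Z.hom) ⟶ V :=
    Over.homMk (𝟙 V.left) ((Category.id_comp _).trans (Over.w d).symm)
  have he : (Over.homMk d.left rfl : Over.mk (d.left ≫ Z.hom) ⟶ Z) = e ≫ d :=
    Over.OverMorphism.ext (Category.id_comp _).symm
  rw [he, Functor.map_comp_assoc, Functor.map_comp_assoc, h]

/-- An affine test scheme lifts to the members after a flat quasi-compact surjection. -/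
theorem exists_single (hg : IsFpqcCover Ti g) (Z : Over S) [IsAffine Z.left]
    (h : (yon S).obj Z ⟶ T) :
    ∃ (V : Over S) (d : V ⟶ Z) (κ : Type u) (W : κ → Over S) (π : ∀ k, W k ⟶ V),
      Flat d.left ∧ Surjective d.left ∧ QuasiCompact d.left ∧ (∀ k, IsOpenImmersion (π k).left) ∧
      (∀ v : ↥V.left, ∃ k w, (π k).left w = v) ∧
      ∀ k, ∃ (i : ι) (l : (yon S).obj (W k) ⟶ Ti i), l ≫ g i = (yon S).map (π k ≫ d) ≫ h := by
  obtain ⟨m, W, c, hW, hc, hcs, hl⟩ := hg.2 Z inferInstance h
  let V : Over S := Over.mk (Sigma.desc fun j => (W j).hom)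
  let d : V ⟶ Z := Over.homMk (Sigma.desc fun j => (c j).left) (by
    apply Sigma.hom_ext
    intro j
    exact (Sigma.ι_desc_assoc _ _ _).trans ((Over.w (c j)).trans (Sigma.ι_desc (fun j => (W j).hom) j).symm))
  let π : ∀ k : ULift.{u} (Fin m), W k.down ⟶ V := fun k =>
    Over.homMk (Sigma.ι (fun j => (W j).left) k.down) (Sigma.ι_desc _ _)
  have : ∀ j, IsAffine (W j).left := hW
  refine ⟨V, d, _, _, π, IsZariskiLocalAtSource.sigmaDesc hc,
    Surjective.sigmaDesc_of_union_range_eq_univ (Set.eq_univ_iff_forall.2 fun z =>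
      Set.mem_iUnion.2 (hcs z)),
    inferInstanceAs (QuasiCompact (Sigma.desc fun j => (c j).left)),
    fun k => inferInstanceAs (IsOpenImmersion (Sigma.ι (fun j => (W j).left) k.down)), fun v => ?_,
    fun k => ?_⟩
  · obtain ⟨w, hw⟩ := (sigmaOpenCover (fun j => (W j).left)).covers v
    exact ⟨⟨(sigmaOpenCover (fun j => (W j).left)).idx v⟩, w, hw⟩
  · have : π k ≫ d = c k.down := Over.OverMorphism.ext (Sigma.ι_desc _ _)
    rw [this]
    exact hl k.down

variable (g) in
/-- `v` is the value forced by the values `b i` on the members, over the point `r`. -/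
def Good (b : ∀ i, Ti i ⟶ B) {R : Over S} (r : (yon S).obj R ⟶ T) (v : (yon S).obj R ⟶ B) : Prop :=
  ∀ ⦃A : Over S⦄ (a : A ⟶ R) (i : ι) (l : (yon S).obj A ⟶ Ti i),
    l ≫ g i = (yon S).map a ≫ r → (yon S).map a ≫ v = l ≫ b i

/-- Points of `B` over a point of `T` are determined by their restrictions to lifts. -/
theorem hom_ext_lifts (hg : IsFpqcCover Ti g) (hB : IsAlgSpace B) {R : Over S}
    (r : (yon S).obj R ⟶ T) {v v' : (yon S).obj R ⟶ B}
    (h : ∀ ⦃A : Over S⦄ (a : A ⟶ R) (i : ι) (l : (yon S).obj A ⟶ Ti i),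
      l ≫ g i = (yon S).map a ≫ r → (yon S).map a ≫ v = (yon S).map a ≫ v') : v = v' := by
  refine hom_ext_glue (T' := fun k => Over.mk (R.left.affineCover.f k ≫ R.hom))
    (fun k => overArrow (R.left.affineCover.f k))
    (fun k => inferInstanceAs (IsOpenImmersion (R.left.affineCover.f k)))
    (fun t => ⟨R.left.affineCover.idx t, R.left.affineCover.covers t⟩) fun k => ?_
  let Z : Over S := Over.mk (R.left.affineCover.f k ≫ R.hom)
  have : IsAffine Z.left := inferInstanceAs (IsAffine (R.left.affineCover.X k))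
  obtain ⟨V, d, κ, W, π, h₁, h₂, h₃, hπ, hπc, hl⟩ :=
    exists_single hg Z ((yon S).map (overArrow (R.left.affineCover.f k)) ≫ r)
  refine hom_ext_single hB d (hom_ext_glue π hπ hπc fun j => ?_)
  obtain ⟨i, l, hli⟩ := hl j
  have := h (π j ≫ d ≫ overArrow (R.left.affineCover.f k)) i l (by
    rw [hli]; simp only [Functor.map_comp, Category.assoc])
  simpa only [Functor.map_comp, Category.assoc] using this

theorem Good.unique (hg : IsFpqcCover Ti g) (hB : IsAlgSpace B) {b : ∀ i, Ti i ⟶ B} {R : Over S}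
    {r : (yon S).obj R ⟶ T} {v v' : (yon S).obj R ⟶ B} (hv : Good g b r v) (hv' : Good g b r v') :
    v = v' :=
  hom_ext_lifts hg hB r fun A a i l e => (hv a i l e).trans (hv' a i l e).symm

theorem Good.comp {b : ∀ i, Ti i ⟶ B} {R R' : Over S} {r : (yon S).obj R ⟶ T}
    {v : (yon S).obj R ⟶ B} (hv : Good g b r v) (q : R' ⟶ R) :
    Good g b ((yon S).map q ≫ r) ((yon S).map q ≫ v) := fun A a i l e => by
  rw [← Functor.map_comp_assoc]
  exact hv (a ≫ q) i l (by rw [Functor.map_comp_assoc, e])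

/-- The forced value exists over an affine test scheme. -/
theorem exists_good_affine (hg : IsFpqcCover Ti g) (hB : IsAlgSpace B) (b : ∀ i, Ti i ⟶ B)
    (hb : ∀ i j, pullback.fst (g i) (g j) ≫ b i = pullback.snd (g i) (g j) ≫ b j)
    (Z : Over S) [IsAffine Z.left] (h : (yon S).obj Z ⟶ T) : ∃ v, Good g b h v := by
  obtain ⟨V, d, κ, W, π, h₁, h₂, h₃, hπ, hπc, hl⟩ := exists_single hg Z h
  choose i l hli using hl
  have key : ∀ {A : Over S} {i j : ι} (l₁ : (yon S).obj A ⟶ Ti i) (l₂ : (yon S).obj A ⟶ Ti j),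
      l₁ ≫ g i = l₂ ≫ g j → l₁ ≫ b i = l₂ ≫ b j := fun {A i j} l₁ l₂ e => by
    rw [← pullback.lift_fst l₁ l₂ e, Category.assoc, hb, ← Category.assoc, pullback.lift_snd]
  obtain ⟨v₀, hv₀, -⟩ := existsUnique_glue π hπ hπc (fun k => l k ≫ b (i k)) fun k k' A x y e => by
    rw [← Category.assoc, ← Category.assoc]
    refine key _ _ ?_
    rw [Category.assoc, Category.assoc, hli, hli, ← Functor.map_comp_assoc, ← Functor.map_comp_assoc,
      ← Category.assoc x, ← Category.assoc y, e]
  have hgood : Good g b ((yon S).map d ≫ h) v₀ := fun A a i' l' e => by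
    let O : κ → A.left.Opens := fun k =>
      have := hπ k
      a.left ⁻¹ᵁ (π k).left.opensRange
    refine hom_ext_glue (fun k => overArrow (U := A) (O k).ι)
      (fun k => inferInstanceAs (IsOpenImmersion (O k).ι)) (fun t => ?_) fun k => ?_
    · obtain ⟨k, w, hw⟩ := hπc (a.left t)
      exact ⟨k, ⟨t, ⟨w, hw⟩⟩, rfl⟩
    · have := hπ k
      let m : Over.mk ((O k).ι ≫ A.hom) ⟶ W k :=
        CategoryTheory.Over.homMk (IsOpenImmersion.lift (π k).left ((O k).ι ≫ a.left)
          (by rintro _ ⟨t, rfl⟩; exact t.2)) (by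
          change _ = (O k).ι ≫ A.hom
          rw [← Over.w (π k), IsOpenImmersion.lift_fac_assoc, Category.assoc, Over.w a])
      have hm : overArrow (U := A) (O k).ι ≫ a = m ≫ π k :=
        Over.OverMorphism.ext (IsOpenImmersion.lift_fac _ _ _).symm
      rw [← Functor.map_comp_assoc, hm, Functor.map_comp_assoc, hv₀, ← Category.assoc,
        ← Category.assoc]
      refine key _ _ ?_
      rw [Category.assoc, Category.assoc, hli, e, ← Functor.map_comp_assoc, ← Functor.map_comp_assoc,
        ← Functor.map_comp_assoc, ← Category.assoc m, ← hm, Category.assoc]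
  obtain ⟨v, hv⟩ := exists_glue hB (fun _ : PUnit.{u + 1} => d.left) (single_mem d)
    (fun _ => (yon S).map (Over.homMk (𝟙 V.left)
      ((Category.id_comp _).trans (Over.w d).symm) : Over.mk (d.left ≫ Z.hom) ⟶ V) ≫ v₀)
    (fun A _ _ x y e => by
      rw [← Functor.map_comp_assoc, ← Functor.map_comp_assoc]
      refine Good.unique hg hB (hgood.comp _) ?_
      rw [← Functor.map_comp_assoc]
      have e' : ∀ (z : A ⟶ Over.mk (d.left ≫ Z.hom)),
          (z ≫ (Over.homMk (𝟙 V.left) ((Category.id_comp _).trans (Over.w d).symm) :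
            Over.mk (d.left ≫ Z.hom) ⟶ V) ≫ d).left = z.left ≫ d.left := fun z => by simp
      rw [show (x ≫ _) ≫ d = (y ≫ _) ≫ d from Over.OverMorphism.ext
        (by rw [Category.assoc, Category.assoc, e', e', e]), Functor.map_comp_assoc]
      exact hgood.comp _)
  let eV : V ⟶ Over.mk (d.left ≫ Z.hom) :=
    Over.homMk (𝟙 V.left) ((Category.id_comp _).trans (Over.w d))
  have hdv : (yon S).map d ≫ v = v₀ := by
    have hd : d = eV ≫ (Over.homMk d.left rfl : Over.mk (d.left ≫ Z.hom) ⟶ Z) :=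
      Over.OverMorphism.ext (Category.id_comp _).symm
    rw [hd, Functor.map_comp_assoc, hv ⟨⟩, ← Functor.map_comp_assoc]
    have : eV ≫ (Over.homMk (𝟙 V.left) ((Category.id_comp _).trans (Over.w d).symm) :
        Over.mk (d.left ≫ Z.hom) ⟶ V) = 𝟙 V := Over.OverMorphism.ext (Category.id_comp _)
    rw [this, CategoryTheory.Functor.map_id, Category.id_comp]
  refine ⟨v, fun A a i' l' e => ?_⟩
  have : Flat (pullback.fst a d).left ∧ Surjective (pullback.fst a d).left ∧
      QuasiCompact (pullback.fst a d).left := by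
    have sq := ((IsPullback.of_hasPullback a d).map (Over.forget S)).flip
    exact ⟨MorphismProperty.of_isPullback sq ‹Flat d.left›,
      MorphismProperty.of_isPullback sq ‹Surjective d.left›,
      MorphismProperty.of_isPullback sq ‹QuasiCompact d.left›⟩
  obtain ⟨_, _, _⟩ := this
  refine hom_ext_single hB (pullback.fst a d) ?_
  rw [← Functor.map_comp_assoc, pullback.condition, Functor.map_comp_assoc, hdv, ← Category.assoc]
  exact hgood _ _ _ (by
    rw [Category.assoc, e, ← Functor.map_comp_assoc, ← Functor.map_comp_assoc, pullback.condition])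

/-- Morphisms to an algebraic space glue along fpqc coverings. -/
theorem exists_hom_glue (hT : IsAlgSpace T) (hg : IsFpqcCover Ti g) (hB : IsAlgSpace B)
    (b : ∀ i, Ti i ⟶ B)
    (hb : ∀ i j, pullback.fst (g i) (g j) ≫ b i = pullback.snd (g i) (g j) ≫ b j) :
    ∃ G : T ⟶ B, ∀ i, g i ≫ G = b i := by
  obtain ⟨U₀, p₀, hpe, hps⟩ := hT.atlas
  let 𝒱 := U₀.left.affineCover
  let U : 𝒱.I₀ → Over S := fun k => Over.mk (𝒱.f k ≫ U₀.hom)
  let c : ∀ k, (yon S).obj (U k) ⟶ T := fun k =>
    (yon S).map (Over.homMk (𝒱.f k) rfl : U k ⟶ U₀) ≫ p₀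
  have hce : ∀ k, RepWith @Etale (c k) := fun k =>
    repWith_comp ((repWith_yon_map_iff _ _).2 (show Etale (𝒱.f k) from inferInstance)) hpe
  have : ∀ k, IsAffine (U k).left := fun k => inferInstanceAs (IsAffine (U₀.left.affineCover.X k))
  have hcov : ∀ x : Points T, ∃ k v, Points.ofPt (c k) v = x := fun x => by
    obtain ⟨w, rfl⟩ := surjective_ofPt hps x
    obtain ⟨v, hv⟩ := 𝒱.covers w
    refine ⟨𝒱.idx w, v, ?_⟩
    simp only [c, ofPt_map_comp]
    exact congrArg (Points.ofPt p₀) hv
  choose z hz using fun k => exists_good_affine hg hB b hb (U k) (c k)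
  obtain ⟨G, hG, -⟩ := DistSq15.existsUnique_of_charts hT U c hce hcov z fun k k' A x y e => by
    refine Good.unique hg hB ((hz k).comp x) ?_
    rw [e]
    exact (hz k').comp y
  refine ⟨G, fun i => hom_ext_yon fun A x => ?_⟩
  let sq := fun k => (hce k).1.isPullback (x ≫ g i)
  let 𝒰 : Scheme.Cover.{u} Scheme.fppfPrecoverage.{u} A.left :=
    Scheme.Cover.mkOfCovers 𝒱.I₀ (fun k => ((hce k).1.pullback (x ≫ g i)).left)
      (fun k => ((hce k).1.snd (x ≫ g i)).left)
      (fun t => by
        obtain ⟨k, v, hv⟩ := hcov (Points.ofPt (x ≫ g i) t)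
        obtain ⟨w, -, hw⟩ := exists_pt_of_isPullback (sq k)
          (x := Points.ofScheme (U k) v) (by rw [← Points.ofPt_eq_map_ofScheme, hv])
        exact ⟨k, w, hw⟩) fun k => by
      have : Etale ((hce k).1.snd (x ≫ g i)).left := (hce k).2 _ _ _ (sq k)
      exact ⟨inferInstance, inferInstance⟩
  refine hom_ext_fppf 𝒰 fun k => ?_
  obtain ⟨m, hm⟩ := (yon S).map_surjective ((hce k).1.fst (x ≫ g i))
  let e₀ : Over.mk (((hce k).1.snd (x ≫ g i)).left ≫ A.hom) ⟶ (hce k).1.pullback (x ≫ g i) :=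
    CategoryTheory.Over.homMk (𝟙 _) ((Category.id_comp _).trans (Over.w _).symm)
  have he₀ : overArrow (U := A) (((hce k).1.snd (x ≫ g i)).left) =
      e₀ ≫ (hce k).1.snd (x ≫ g i) := Over.OverMorphism.ext (Category.id_comp _).symm
  change (yon S).map (overArrow (U := A) ((hce k).1.snd (x ≫ g i)).left) ≫ _ =
    (yon S).map (overArrow (U := A) ((hce k).1.snd (x ≫ g i)).left) ≫ _
  rw [he₀, Functor.map_comp_assoc, Functor.map_comp_assoc]
  congr 1
  rw [← Category.assoc x, ← Category.assoc ((yon S).map _) (x ≫ g i), ← (sq k).w, ← hm,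
    Category.assoc, hG k, ← Category.assoc ((yon S).map _) x]
  exact hz k m i _ (by rw [Category.assoc, ← (sq k).w, hm])

/-- Morphisms to an algebraic space are determined on an fpqc covering. -/
theorem hom_ext_cover (hg : IsFpqcCover Ti g) (hB : IsAlgSpace B) {G G' : T ⟶ B}
    (h : ∀ i, g i ≫ G = g i ≫ G') : G = G' :=
  hom_ext_yon fun A x => hom_ext_lifts hg hB x fun A' a i l e => by
    rw [← Category.assoc, ← e, Category.assoc, h i, ← Category.assoc, e, Category.assoc]

end Groth.Agent.Gabber15
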