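import Groth.Agent.Lib.Gabber15.HomSheaf
import Groth.Agent.Lib.AlgSpDescent.FpqcCalc
import Groth.Agent.Lib.AlgSpace.QC
import Groth.Agent.Lib.AlgSpace.Sub
import Groth.Agent.Lib.AlgSpace.LocP
import Groth.Agent.Lib.AlgSpDecent.FlatAt
import Groth.Agent.Lib.LimH13.KerFG
import Groth.Agent.Lib.FlatH4.FlatLocusScheme
import Groth.Prelude.Def_AlgSpMor5

/-!
# The fpqc covering of an open complement and a modification
-/

universe u

set_option backward.isDefEq.respectTransparency.types false

open CategoryTheory CategoryTheory.Limits AlgebraicGeometry Opposite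

namespace Groth.Agent.Gabber15

open AlgSp AlgSpace AlgSpDecent AlgSpDescent

variable {S : Scheme.{u}}

/-- The localisation along `1 + J` is flat as soon as the localisations at the primes containing `J` are. -/
theorem flat_localization_one_add {R B : Type u} [CommRing R] [CommRing B] [Algebra R B] (J : Ideal B)
    (M : Submonoid B) (hM : ∀ b, b ∈ M ↔ b - 1 ∈ J)
    (H : ∀ q : Ideal B, ∀ _ : q.IsPrime, J ≤ q → Module.Flat R (Localization.AtPrime q)) :
    Module.Flat R (Localization M) := by
  refine Module.flat_of_isLocalized_maximal (R := R) (S := Localization M) _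
    (fun P => Localization.AtPrime P)
    (fun P _ => Algebra.linearMap (Localization M) (Localization.AtPrime P)) fun P hP => ?_
  let q : Ideal B := P.comap (algebraMap B (Localization M))
  have hJ : J ≤ q := fun x hx => by
    by_contra hxq
    have hxP : algebraMap B (Localization M) x ∉ P := hxq
    obtain ⟨y, m, hm, e⟩ := hP.exists_inv hxP
    obtain ⟨⟨b, s⟩, rfl⟩ := IsLocalization.mk'_surjective M y
    -- clear denominators
    have h1 : algebraMap B (Localization M) (b * x - (s : B)) ∈ P := by
      have : algebraMap B (Localization M) (b * x - (s : B)) =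
          -(algebraMap B (Localization M) s * m) := by
        have e' := congrArg (algebraMap B (Localization M) s * ·) e
        simp only [mul_add, ← mul_assoc, IsLocalization.mk'_spec', mul_one] at e'
        rw [map_sub, map_mul]
        linear_combination e'
      rw [this]
      exact P.neg_mem (P.mul_mem_left _ hm)
    have h2 : (s : B) - b * x ∈ M := by
      rw [hM]
      have : (s : B) - b * x - 1 = ((s : B) - 1) - b * x := by ring
      rw [this]
      exact J.sub_mem ((hM _).1 s.2) (J.mul_mem_left _ hx)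
    have h3 : algebraMap B (Localization M) ((s : B) - b * x) ∈ P := by
      rw [← neg_sub, map_neg]
      exact P.neg_mem h1
    exact hP.ne_top (Ideal.eq_top_of_isUnit_mem _ h3 (IsLocalization.map_units _ ⟨_, h2⟩))
  have := H q inferInstance hJ
  have : IsLocalization.AtPrime (Localization.AtPrime P) q :=
    IsLocalization.isLocalization_atPrime_localization_atPrime M P
  exact Module.Flat.of_linearEquiv
    ((IsLocalization.algEquiv q.primeCompl (Localization.AtPrime q)
      (Localization.AtPrime P)).symm.toLinearEquiv.restrictScalars R)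

theorem mem_basicOpen_iff {X : Scheme.{u}} {U : X.Opens} (hU : IsAffineOpen U) (g : Γ(X, U))
    (x : U) : (x : X) ∈ X.basicOpen g ↔ g ∉ (hU.primeIdealOf x).asIdeal := by
  conv_lhs => rw [← hU.fromSpec_primeIdealOf x]
  change hU.primeIdealOf x ∈ hU.fromSpec ⁻¹ᵁ X.basicOpen g ↔ _
  rw [hU.fromSpec_preimage_basicOpen]
  exact Iff.rfl

theorem primeIdealOf_fromSpec {X : Scheme.{u}} {U : X.Opens} (hU : IsAffineOpen U)
    (p : PrimeSpectrum Γ(X, U)) (h : hU.fromSpec p ∈ U) : hU.primeIdealOf ⟨hU.fromSpec p, h⟩ = p :=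
  hU.fromSpec.isOpenEmbedding.injective (hU.fromSpec_primeIdealOf _)

variable {X Y Z : Sp S} {f : Y ⟶ X} {i : Z ⟶ X}

/-- The members of the refining covering over an affine étale chart. -/
theorem exists_pieces {U : Space S} {j : U.obj ⟶ X} (hj : RepWith @IsOpenImmersion j)
    (hX : IsAlgSpace X) (hY : IsAlgSpace Y) (hqc : IsQuasiCompactMor f)
    (hi : RepWith @IsClosedImmersion i) (hifp : LocP @LocallyOfFinitePresentation i)
    (hsurj : ∀ z, Points.map i z ∈ Set.range (Points.map f))
    (hflat : ∀ y, Points.map f y ∈ Set.range (Points.map i) → IsFlatAtMor f y)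
    (hU : Set.range (Points.map j) = (Set.range (Points.map i))ᶜ)
    {A : Over S} [IsAffine A.left] (c : (yon S).obj A ⟶ X) (hc : RepWith @Etale c) :
    ∃ (m : ℕ) (W : Fin m → Over S) (w : ∀ k, W k ⟶ A),
      (∀ k, IsAffine (W k).left) ∧ (∀ k, Flat (w k).left) ∧
      (∀ a : ↥A.left, ∃ k, a ∈ Set.range (w k).left) ∧
      ∀ k, (∃ l : (yon S).obj (W k) ⟶ U.obj, l ≫ j = (yon S).map (w k) ≫ c) ∨
        (∃ l : (yon S).obj (W k) ⟶ Y, l ≫ f = (yon S).map (w k) ≫ c) := by
  have sqi := hi.1.isPullback c
  obtain ⟨lz, hlz⟩ := (yon S).map_surjective ((yon S).map (hi.1.snd c))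
  let z := (hi.1.snd c).left
  have : IsClosedImmersion z := hi.2 c _ _ sqi
  have : LocallyOfFinitePresentation z :=
    hifp (hi.1.fst c) c (hi.1.snd c) (repWith_of_isPullback sqi.flip hc) hc sqi.w
  have hfg : (z.ker.ideal ⟨⊤, isAffineOpen_top A.left⟩).FG := LimH13.ifg_ker z ⟨⊤, isAffineOpen_top A.left⟩
  obtain ⟨G, hG⟩ := hfg
  have hrange : ∀ a : ↥A.left, Points.ofPt c a ∈ Set.range (Points.map i) ↔ a ∈ Set.range z := by
    intro a
    constructor
    · rintro ⟨p, hp⟩
      obtain ⟨v, -, hv⟩ := exists_pt_of_isPullback sqi hp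
      exact ⟨v, hv⟩
    · rintro ⟨v, rfl⟩
      exact ⟨_, ofPt_sq sqi.w v⟩
  have hzero : Set.range z = A.left.zeroLocus (U := ⊤) (G : Set Γ(A.left, ⊤)) := by
    have h1 : Set.range z = (z.ker.support : Set A.left) := by
      rw [Scheme.Hom.support_ker, z.isClosedEmbedding.isClosed_range.closure_eq]
    have h2 := z.ker.coe_support_inter ⟨⊤, isAffineOpen_top A.left⟩
    simp only [TopologicalSpace.Opens.coe_top, Set.inter_univ] at h2
    rw [h1, h2, ← hG, Scheme.zeroLocus_span]
  -- the chart of the modification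
  have sqf := IsPullback.of_hasPullback f c
  have hP : IsAlgSpace (pullback f c) := isAlgSpace_pullback hX hY (IsAlgSpace.yon_obj A) sqf
  have : CompactSpace (Points ((yon S).obj A)) := compactSpace_yon_of_affine A
  have := compactSpace_of_isQuasiCompactMor hY hX hqc (IsAlgSpace.yon_obj A) sqf
  obtain ⟨V, r, hV, hre, hrs⟩ := exists_affine_chart ((isQuasiCompactSp_iff hP).2 inferInstance)
  obtain ⟨h, hh⟩ := (yon S).map_surjective (r ≫ pullback.snd f c)
  let a := r ≫ pullback.fst f c
  have hae : RepWith @Etale a := repWith_comp hre (repWith_of_isPullback sqf.flip hc)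
  have haf : a ≫ f = (yon S).map h ≫ c := by
    rw [hh, Category.assoc, Category.assoc, sqf.w]
  let φ := h.left.appTop
  let J : Ideal Γ(V.left, ⊤) := Ideal.map φ.hom (Ideal.span (G : Set Γ(A.left, ⊤)))
  let M : Submonoid Γ(V.left, ⊤) :=
    { carrier := {b | b - 1 ∈ J}
      one_mem' := by simp
      mul_mem' := fun {p q} hp hq => by
        show p * q - 1 ∈ J
        have : p * q - 1 = (p - 1) * q + (q - 1) := by ring
        rw [this]
        exact J.add_mem (J.mul_mem_right _ hp) hq }
  let B' := CommRingCat.of (Localization M)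
  let loc : Γ(V.left, ⊤) ⟶ B' := CommRingCat.ofHom (algebraMap _ _)
  let e : Spec B' ⟶ V.left := Spec.map loc ≫ V.left.isoSpec.inv
  let WV : Over S := Over.mk (e ≫ V.hom)
  let eV : WV ⟶ V := Over.homMk e rfl
  have hJmem : ∀ v : ↥V.left, J ≤ ((isAffineOpen_top V.left).primeIdealOf ⟨v, trivial⟩).asIdeal ↔
      h.left v ∈ Set.range z := by
    intro v
    rw [Ideal.map_le_iff_le_comap, Ideal.span_le, hzero, Scheme.mem_zeroLocus_iff]
    have key := congrArg PrimeSpectrum.asIdeal (IsAffineOpen.comap_primeIdealOf_appLE ⊤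
      (isAffineOpen_top A.left) ⊤ (isAffineOpen_top V.left) (f := h.left) (fun _ _ => trivial)
      (x := v) trivial)
    change ((isAffineOpen_top V.left).primeIdealOf ⟨v, trivial⟩).asIdeal.comap
      (h.left.appLE ⊤ ⊤ _).hom = _ at key
    constructor
    · intro H g hg hgv
      have := H hg
      rw [SetLike.mem_coe, show φ.hom = (h.left.appLE ⊤ ⊤ le_rfl).hom by
        simp [φ, Scheme.Hom.appLE, Scheme.Hom.appTop], key] at this
      exact (mem_basicOpen_iff (isAffineOpen_top A.left) g ⟨h.left v, trivial⟩).1 hgv this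
    · intro H g hg
      rw [SetLike.mem_coe, show φ.hom = (h.left.appLE ⊤ ⊤ le_rfl).hom by
        simp [φ, Scheme.Hom.appLE, Scheme.Hom.appTop], key]
      by_contra hg'
      exact H g hg ((mem_basicOpen_iff (isAffineOpen_top A.left) g ⟨h.left v, trivial⟩).2 hg')
  have hflatW : Flat (e ≫ h.left) := by
    rw [HasRingHomProperty.iff_of_isAffine (P := @Flat)]
    letI : Algebra Γ(A.left, ⊤) Γ(V.left, ⊤) := (h.left.appLE ⊤ ⊤ le_rfl).hom.toAlgebra
    have hflat' : Module.Flat Γ(A.left, ⊤) (Localization M) := by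
      refine flat_localization_one_add J M (fun b => Iff.rfl) fun q hq hJq => ?_
      let v : ↥V.left := (isAffineOpen_top V.left).fromSpec (⟨q, hq⟩ : PrimeSpectrum _)
      have hv : ((isAffineOpen_top V.left).primeIdealOf ⟨v, trivial⟩).asIdeal = q := by
        exact congrArg PrimeSpectrum.asIdeal
          (primeIdealOf_fromSpec (isAffineOpen_top V.left) (⟨q, hq⟩ : PrimeSpectrum _) _)
      have hz : h.left v ∈ Set.range z := (hJmem v).1 (by rw [hv]; exact hJq)
      have hy : Points.map f (Points.ofPt a v) ∈ Set.range (Points.map i) := by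
        rw [Points.map_ofPt, haf, ofPt_map_comp]
        exact (hrange _).2 hz
      have := (FlatH4.flat_localization_iff _).1
        ((FlatH4.flat_stalkMap_iff h.left ⊤ (isAffineOpen_top A.left) ⊤ (isAffineOpen_top V.left)
          le_rfl (x := v) trivial).1 ((FlatAt.isFlatAtMor_iff hae hc haf v).1 (hflat _ hy)))
      exact (show ∀ (q' : Ideal Γ(V.left, ⊤)) (_ : q'.IsPrime), q' = q →
          Module.Flat Γ(A.left, ⊤) (Localization.AtPrime q') →
          Module.Flat Γ(A.left, ⊤) (Localization.AtPrime q) by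
        intro q' _ e H; subst e; exact H) _ inferInstance hv this
    have e' : (e ≫ h.left).appTop = h.left.appLE ⊤ ⊤ le_rfl ≫ loc ≫
        (Scheme.ΓSpecIso B').inv := by
      have hinv : V.left.isoSpec.inv.appTop = (Scheme.ΓSpecIso Γ(V.left, ⊤)).inv := by
        have h1 : V.left.isoSpec.hom.appTop = (Scheme.ΓSpecIso Γ(V.left, ⊤)).hom :=
          Scheme.toSpecΓ_appTop V.left
        have h2 := congrArg Scheme.Hom.appTop V.left.isoSpec.hom_inv_id
        rw [Scheme.Hom.comp_appTop, Scheme.Hom.id_appTop, h1] at h2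
        exact ((Iso.comp_hom_eq_id _).1 h2)
      rw [Scheme.Hom.comp_appTop, Scheme.Hom.comp_appTop, hinv, Scheme.ΓSpecIso_inv_naturality]
      congr 1
      simp [Scheme.Hom.appLE, Scheme.Hom.appTop]
    rw [e', ← Category.assoc, CommRingCat.hom_comp, CommRingCat.hom_comp]
    refine RingHom.Flat.comp ?_ (RingHom.Flat.of_bijective
      (ConcreteCategory.bijective_of_isIso (Scheme.ΓSpecIso B').inv))
    change ((algebraMap Γ(V.left, ⊤) (Localization M)).comp
      (algebraMap Γ(A.left, ⊤) Γ(V.left, ⊤))).Flat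
    rw [← IsScalarTower.algebraMap_eq]
    exact RingHom.flat_algebraMap_iff.2 hflat'
  classical
  let D : ↥G → Over S := fun g => Over.mk ((A.left.basicOpen g.1).ι ≫ A.hom)
  let W : Option ↥G → Over S := fun o => o.elim WV D
  let w : ∀ o, W o ⟶ A := fun o => match o with
    | none => eV ≫ h
    | some g => overArrow (U := A) (A.left.basicOpen g.1).ι
  let ε := (Fintype.equivFin (Option ↥G)).symm
  have hWaff : ∀ o, IsAffine (W o).left := fun o => by
    rcases o with _ | g
    · exact inferInstanceAs (IsAffine (Spec B'))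
    · exact ((isAffineOpen_top A.left).basicOpen g.1 :)
  have hwflat : ∀ o, Flat (w o).left := fun o => by
    rcases o with _ | g
    · exact hflatW
    · exact inferInstanceAs (Flat (A.left.basicOpen g.1).ι)
  have hwl : ∀ o, (∃ l : (yon S).obj (W o) ⟶ U.obj, l ≫ j = (yon S).map (w o) ≫ c) ∨
      (∃ l : (yon S).obj (W o) ⟶ Y, l ≫ f = (yon S).map (w o) ≫ c) := fun o => by
    rcases o with _ | g
    · refine Or.inr ⟨(yon S).map eV ≫ a, ?_⟩
      rw [Category.assoc, haf]
      exact ((yon S).map_comp_assoc eV h c).symm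
    · refine Or.inl (exists_factor_of_range hj _ ?_)
      rintro _ ⟨p, rfl⟩
      obtain ⟨s, rfl⟩ := (Points.schemeEquiv (D g)).surjective p
      rw [hU]
      intro hm
      have e₁ : Points.map ((yon S).map (w (some g)) ≫ c) (Points.ofScheme (D g) s) =
          Points.ofPt c ((w (some g)).left s) :=
        (Points.ofPt_eq_map_ofScheme _ s).symm.trans (ofPt_map_comp _ _ _)
      have hs := (hrange _).1 (e₁ ▸ hm : Points.ofPt c ((w (some g)).left s) ∈ _)
      rw [hzero, Scheme.mem_zeroLocus_iff] at hs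
      exact hs g.1 g.2 s.2
  refine ⟨_, fun k => W (ε k), fun k => w (ε k), fun k => hWaff _, fun k => hwflat _, fun t => ?_,
    fun k => hwl _⟩
  · suffices ∃ o, t ∈ Set.range (w o).left by
      obtain ⟨o, ho⟩ := this
      obtain ⟨k, rfl⟩ := ε.surjective o
      exact ⟨k, ho⟩
    rcases Classical.em (t ∈ Set.range z) with ht | ht
    · obtain ⟨p, hp⟩ := (hrange t).2 ht
      obtain ⟨y, hy⟩ := hsurj p
      obtain ⟨q, -, hq⟩ := exists_point_lift sqf y (Points.ofScheme A t)
        (by rw [← Points.ofPt_eq_map_ofScheme, hy, hp])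
      obtain ⟨v, rfl⟩ := surjective_ofPt hrs q
      rw [Points.map_ofPt, ← hh, ofPt_map_eq] at hq
      have hv : h.left v = t := (Points.schemeEquiv A).injective hq
      have hJv : J ≤ ((isAffineOpen_top V.left).primeIdealOf ⟨v, trivial⟩).asIdeal :=
        (hJmem v).2 (hv ▸ ht)
      let q : Ideal Γ(V.left, ⊤) := ((isAffineOpen_top V.left).primeIdealOf ⟨v, trivial⟩).asIdeal
      have hd : Disjoint (M : Set Γ(V.left, ⊤)) (q : Set Γ(V.left, ⊤)) := by
        rw [Set.disjoint_left]
        intro b hb hbq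
        have : (1 : Γ(V.left, ⊤)) ∈ q := by
          have := q.sub_mem hbq (hJv hb)
          simpa using this
        exact q.primeCompl.one_mem this
      have hprime := IsLocalization.isPrime_of_isPrime_disjoint M (Localization M) q inferInstance hd
      refine ⟨none, (⟨_, hprime⟩ : PrimeSpectrum (Localization M)), ?_⟩
      change h.left (e _) = t
      rw [← hv]
      congr 1
      change (Spec.map loc ≫ V.left.isoSpec.inv) _ = v
      rw [Scheme.Hom.comp_apply]
      have : Spec.map loc (⟨_, hprime⟩ : PrimeSpectrum (Localization M)) =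
          (isAffineOpen_top V.left).primeIdealOf ⟨v, trivial⟩ :=
        PrimeSpectrum.ext (IsLocalization.comap_map_of_isPrime_disjoint M (Localization M) inferInstance hd)
      rw [this, ← IsAffineOpen.fromSpec_top]
      exact (isAffineOpen_top V.left).fromSpec_primeIdealOf ⟨v, trivial⟩
    · rw [hzero, Scheme.mem_zeroLocus_iff] at ht
      push Not at ht
      obtain ⟨g, hg, hgt⟩ := ht
      exact ⟨some ⟨g, hg⟩, ⟨t, hgt⟩, rfl⟩

/-- A finite flat jointly surjective family of affine schemes is an fpqc covering. -/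
theorem isFpqcCover_of_finite {A : Over S} [IsAffine A.left] {m : ℕ} (W : Fin m → Over S)
    (w : ∀ k, W k ⟶ A) (hW : ∀ k, IsAffine (W k).left) (hf : ∀ k, Flat (w k).left)
    (hs : ∀ a : ↥A.left, ∃ k, a ∈ Set.range (w k).left) :
    IsFpqcCover (fun k : ULift.{u} (Fin m) => (yon S).obj (W k.down))
      (fun k => (yon S).map (w k.down)) := by
  refine ⟨fun k => locP_of_repWith (IsAlgSpace.yon_obj A) ((repWith_yon_map_iff _ _).2 (hf k.down)),
    fun Z hZ t => ?_⟩
  obtain ⟨s, rfl⟩ := (yon S).map_surjective t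
  let sq := fun k => (IsPullback.of_hasPullback s (w k)).map (Over.forget S)
  refine ⟨m, fun k => pullback s (w k), fun k => pullback.fst s (w k), fun k => ?_, fun k => ?_,
    fun z => ?_, fun k => ⟨⟨k⟩, (yon S).map (pullback.snd s (w k)), ?_⟩⟩
  · have := hW k
    have : IsAffine (pullback ((Over.forget S).map s) ((Over.forget S).map (w k))) :=
      inferInstanceAs (IsAffine (pullback s.left (w k).left))
    exact IsAffine.of_isIso (sq k).isoPullback.hom
  · exact MorphismProperty.of_isPullback (sq k).flip (hf k)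
  · obtain ⟨k, v, hv⟩ := hs (s.left z)
    obtain ⟨p, hp, -⟩ := Scheme.Pullback.exists_preimage_pullback (f := s.left) (g := (w k).left) z v hv.symm
    refine ⟨k, (sq k).isoPullback.inv p, ?_⟩
    exact (Scheme.Hom.comp_apply _ _ p).symm.trans ((congrArg (fun φ : _ ⟶ Z.left => φ p)
      (sq k).isoPullback_inv_fst).trans hp)
  · rw [← Functor.map_comp, ← Functor.map_comp, pullback.condition]

/-- The open complement and the modification are refined by an fpqc covering. -/
theorem exists_cover {X Y : Space S} {Z FZ : Sp S} {f : Y.obj ⟶ X.obj} (hqc : IsQuasiCompactMor f)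
    {i : Z ⟶ X.obj} (hi : RepWith @IsClosedImmersion i) (hifp : LocP @LocallyOfFinitePresentation i)
    {iY : FZ ⟶ Y.obj} {fZ : FZ ⟶ Z} (hFZ : IsPullback iY fZ f i) [IsIso fZ]
    (hflat : ∀ y ∈ Set.range (Points.map iY), IsFlatAtMor f y) {U : Space S} {j : U.obj ⟶ X.obj}
    (hj : RepWith @IsOpenImmersion j)
    (hU : Set.range (Points.map j) = (Set.range (Points.map i))ᶜ) :
    ∃ (ι : Type u) (W : ι → Space S) (w : ∀ k, (W k).obj ⟶ X.obj),
      IsFpqcCover (fun k => (W k).obj) w ∧
        ∀ k, (∃ l : (W k).obj ⟶ U.obj, l ≫ j = w k) ∨ (∃ l : (W k).obj ⟶ Y.obj, l ≫ f = w k) := by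
  obtain ⟨κ, A, c, hA, hc, hcs⟩ := exists_affine_cover X.property
  have hsurj : ∀ z, Points.map i z ∈ Set.range (Points.map f) := fun z => by
    refine ⟨Points.map iY (Points.map (inv fZ) z), ?_⟩
    rw [← Function.comp_apply (f := Points.map f), ← map_comp_eq, hFZ.w, map_comp_eq,
      Function.comp_apply]
    congr 1
    rw [← Function.comp_apply (f := Points.map fZ), ← map_comp_eq, IsIso.inv_hom_id, Points.map_id]
  have hflat' : ∀ y, Points.map f y ∈ Set.range (Points.map i) → IsFlatAtMor f y := by
    rintro y ⟨z, hz⟩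
    obtain ⟨w, hw, -⟩ := exists_point_lift hFZ y z hz.symm
    exact hflat y ⟨w, hw⟩
  have := fun k => exists_pieces (A := A k) hj X.property Y.property hqc hi hifp hsurj hflat' hU (c k) (hc k)
  choose m W w hW hwf hws hwl using this
  have hfp : IsFppfCover (fun k => (yon S).obj (A k)) c := by
    refine ⟨fun k => ⟨locP_of_repWith X.property (repWith_mono etale_le_flat (hc k)),
      locP_of_repWith X.property (repWith_mono etale_le_lfp (hc k))⟩, fun x => ?_⟩
    obtain ⟨k, v, hv⟩ := hcs x
    exact ⟨k, v, hv⟩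
  refine ⟨Σ k, ULift.{u} (Fin (m k)), fun r => ⟨(yon S).obj (W r.1 r.2.down), IsAlgSpace.yon_obj _⟩,
    fun r => (yon S).map (w r.1 r.2.down) ≫ c r.1,
    isFpqcCover_sigma X.property (fun k => IsAlgSpace.yon_obj _) (fun k l => IsAlgSpace.yon_obj _)
      (isFpqcCover_of_isFppfCover X.property (fun k => IsAlgSpace.yon_obj _) hfp)
      (fun k => isFpqcCover_of_finite (W k) (w k) (hW k) (hwf k) (hws k)),
    fun r => hwl r.1 r.2.down⟩

end Groth.Agent.Gabber15
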